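import Mathlib
import Groth.Prelude
import Groth.Agent.Lib.Helper7.EtLoc.LocalStructure
import Groth.Agent.Lib.Helper8.FlatReg11
import Groth.Agent.Lib.Helper8.RegularLocal3

/-! helper7: an unramified local homomorphism essentially of finite type from a regular local
ring to a Noetherian local ring of at least the same dimension is formally etale (no
Cohen-Macaulay hypothesis needed). -/

set_option linter.style.haveILetI false
set_option linter.unusedVariables false
set_option linter.unusedSectionVars false
set_option linter.overlappingInstances false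

open IsLocalRing

namespace Groth.Agent.Helper7.EtCoord

universe u

/-- A surjection from a finite-dimensional domain onto a ring of at least the same dimension is
injective. -/
theorem injective_of_surjective_of_dim_le {E B : Type u} [CommRing E] [CommRing B] [IsDomain E]
    [IsNoetherianRing E] [IsLocalRing E]
    (Ψ : E →+* B) (hΨ : Function.Surjective Ψ) (hdim : ringKrullDim E ≤ ringKrullDim B) :
    Function.Injective Ψ := by
  rw [injective_iff_map_eq_zero]
  intro x hx
  by_contra hx0
  have hfin : ringKrullDim E < ⊤ := ringKrullDim_lt_top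
  have hnn : (0 : WithBot ℕ∞) ≤ ringKrullDim E := ringKrullDim_nonneg_of_nontrivial
  obtain ⟨e, he⟩ : ∃ e : ℕ, ringKrullDim E = e := by
    have h1 : ringKrullDim E ≠ ⊥ := fun h => by rw [h] at hnn; exact absurd hnn (by simp)
    have h2 : ringKrullDim E ≠ ⊤ := hfin.ne
    obtain ⟨d, hd⟩ := WithBot.ne_bot_iff_exists.mp h1
    have h3 : d ≠ ⊤ := fun h => h2 (by rw [← hd, h]; rfl)
    obtain ⟨e, he⟩ := ENat.ne_top_iff_exists.mp h3
    exact ⟨e, by rw [← hd, ← he]; rfl⟩
  have hxnzd : x ∈ nonZeroDivisors E := mem_nonZeroDivisors_of_ne_zero hx0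
  have hd1 := ringKrullDim_quotient_succ_le_of_nonZeroDivisor hxnzd
  have hle : Ideal.span {x} ≤ RingHom.ker Ψ := by
    rw [Ideal.span_singleton_le_iff_mem]
    exact hx
  have hd2 : ringKrullDim B ≤ ringKrullDim (E ⧸ Ideal.span {x}) :=
    ringKrullDim_le_of_surjective (Ideal.Quotient.lift (Ideal.span {x}) Ψ (fun a ha => hle ha))
      (Ideal.Quotient.lift_surjective_of_surjective _ _ hΨ)
  have h4 : ringKrullDim E + 1 ≤ ringKrullDim E :=
    (add_le_add_left (hdim.trans hd2) 1).trans hd1
  rw [he] at h4
  have h5 : e + 1 ≤ e := by exact_mod_cast h4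
  omega

/-- An unramified local homomorphism, essentially of finite type, from a regular local ring to a
Noetherian local ring of at least the same dimension is formally etale. -/
theorem formallyEtale_of_formallyUnramified_of_dim_le (A B : Type u) [CommRing A] [CommRing B]
    [IsLocalRing A] [IsLocalRing B] [Algebra A B] [IsLocalHom (algebraMap A B)]
    [Algebra.EssFiniteType A B] [IsRegularLocalRing A]
    [Algebra.FormallyUnramified A B]
    (hdim : ringKrullDim A ≤ ringKrullDim B) : Algebra.FormallyEtale A B := by
  have hm := Algebra.FormallyUnramified.map_maximalIdeal (R := A) (S := B)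
  obtain ⟨P, 𝔮, h𝔮, Ψ, hΨ⟩ := Groth.Agent.Helper7.EtLoc.exists_standardEtale_surjection A B hm
  haveI : IsNoetherianRing A := inferInstance
  haveI : IsNoetherianRing P.Ring := Algebra.FiniteType.isNoetherianRing A P.Ring
  haveI : IsNoetherianRing (Localization.AtPrime 𝔮) :=
    IsLocalization.isNoetherianRing 𝔮.primeCompl _ inferInstance
  haveI : Algebra.FormallyUnramified A (Localization.AtPrime 𝔮) :=
    Algebra.FormallyUnramified.comp A P.Ring _
  haveI : Algebra.FormallyEtale P.Ring (Localization.AtPrime 𝔮) :=
    Algebra.FormallyEtale.of_isLocalization 𝔮.primeCompl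
  haveI : Algebra.FormallyEtale A P.Ring := inferInstance
  haveI : Algebra.FormallyEtale A (Localization.AtPrime 𝔮) :=
    Algebra.FormallyEtale.comp A P.Ring _
  haveI : Algebra.EssFiniteType A (Localization.AtPrime 𝔮) :=
    Algebra.EssFiniteType.comp A P.Ring _
  haveI : Module.Flat A P.Ring := inferInstance
  haveI : Module.Flat A (Localization.AtPrime 𝔮) := Module.Flat.trans A P.Ring _
  haveI : IsLocalHom (algebraMap A (Localization.AtPrime 𝔮)) := by
    haveI : IsLocalHom ((Ψ : Localization.AtPrime 𝔮 →+* B).comp
        (algebraMap A (Localization.AtPrime 𝔮))) := by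
      have : (Ψ : Localization.AtPrime 𝔮 →+* B).comp (algebraMap A (Localization.AtPrime 𝔮)) =
          algebraMap A B := Ψ.comp_algebraMap
      rw [this]; infer_instance
    exact isLocalHom_of_comp _ (Ψ : Localization.AtPrime 𝔮 →+* B)
  have hmE := Algebra.FormallyUnramified.map_maximalIdeal (R := A) (S := Localization.AtPrime 𝔮)
  -- the closed fibre of `E` is a field
  have hfield : IsField (Localization.AtPrime 𝔮 ⧸
      (maximalIdeal A).map (algebraMap A (Localization.AtPrime 𝔮))) := by
    rw [hmE]
    exact (Ideal.Quotient.maximal_ideal_iff_isField_quotient _).mp (maximalIdeal.isMaximal _)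
  have hdimE : ringKrullDim (Localization.AtPrime 𝔮) = ringKrullDim A := by
    rw [Groth.Agent.Helper8.FlatReg.ringKrullDim_eq_add_of_flat A (Localization.AtPrime 𝔮),
      ringKrullDim_eq_zero_of_isField hfield, add_zero]
  haveI : IsRegularLocalRing (Localization.AtPrime 𝔮) := by
    letI : Field (Localization.AtPrime 𝔮 ⧸
      (maximalIdeal A).map (algebraMap A (Localization.AtPrime 𝔮))) := hfield.toField
    haveI : IsRegularLocalRing (Localization.AtPrime 𝔮 ⧸
        (maximalIdeal A).map (algebraMap A (Localization.AtPrime 𝔮))) := inferInstance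
    exact Groth.Agent.Helper8.FlatReg.isRegularLocalRing_of_flat_of_fibre A
      (Localization.AtPrime 𝔮)
  haveI : IsDomain (Localization.AtPrime 𝔮) :=
    Groth.Agent.Helper8.RLR.isDomain (Localization.AtPrime 𝔮)
  have hinj : Function.Injective Ψ :=
    injective_of_surjective_of_dim_le (Ψ : Localization.AtPrime 𝔮 →+* B) hΨ
      (by rw [hdimE]; exact hdim)
  exact Algebra.FormallyEtale.of_equiv (AlgEquiv.ofBijective Ψ ⟨hinj, hΨ⟩)

end Groth.Agent.Helper7.EtCoord
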