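import Mathlib
import Groth.Prelude
import Groth.Agent.Lib.Helper7.EtCoord.UnrReg
import Groth.Agent.Lib.Helper4.DimFT2

/-! helper7: etale coordinates via differentials (S2790): for a finite type algebra over a field
with a map from the polynomial ring, at a prime of local dimension n the map is etale iff the
differentials of the coordinates span the differentials of the local ring; unramified over a
regular base with no dimension drop is etale at the prime. -/

set_option linter.style.haveILetI false
set_option linter.unusedVariables false
set_option linter.unusedSectionVars false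
set_option linter.overlappingInstances false

open IsLocalRing TensorProduct

namespace Groth.Agent.Helper7.EtCoord

universe u

section General

/-- Unramified at a prime over a regular base with no drop of dimension implies etale at the
prime. -/
theorem isEtaleAt_of_isUnramifiedAt_of_dim_le (R S : Type u) [CommRing R] [CommRing S]
    [Algebra R S] [Algebra.FiniteType R S] (q : Ideal S) [q.IsPrime]
    [IsRegularLocalRing (Localization.AtPrime (q.under R))]
    [Algebra.IsUnramifiedAt R q]
    (hdim : ringKrullDim (Localization.AtPrime (q.under R)) ≤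
      ringKrullDim (Localization.AtPrime q)) : Algebra.IsEtaleAt R q := by
  have hlo : q.LiesOver (q.under R) := ⟨rfl⟩
  let Rp := Localization.AtPrime (q.under R)
  let Sq := Localization.AtPrime q
  letI := Localization.AtPrime.algebraOfLiesOver (q.under R) q
  haveI : Algebra.EssFiniteType Rp Sq := .of_comp R _ _
  haveI : Algebra.FormallyUnramified R Sq := ‹Algebra.IsUnramifiedAt R q›
  haveI : Algebra.FormallyUnramified Rp Sq := .of_restrictScalars R _ _
  haveI : Algebra.FormallyEtale Rp Sq :=
    formallyEtale_of_formallyUnramified_of_dim_le Rp Sq hdim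
  haveI : Algebra.FormallyEtale R Rp := Algebra.FormallyEtale.of_isLocalization (q.under R).primeCompl
  exact Algebra.FormallyEtale.comp R Rp Sq

end General

section Dim

variable (k : Type u) [Field k]

theorem exists_trdeg_residueField (A : Type u) [CommRing A] [Algebra k A]
    [Algebra.FiniteType k A] (p : Ideal A) [p.IsPrime] :
    ∃ t : ℕ, Algebra.trdeg k p.ResidueField = t := by
  haveI : Algebra.FiniteType k (A ⧸ p) :=
    Algebra.FiniteType.of_surjective (Ideal.Quotient.mkₐ k p) (Ideal.Quotient.mkₐ_surjective k p)
  obtain ⟨n, htr, -⟩ := Groth.Agent.Lib.Helper4.DimFT1.exists_dim_eq_trdeg k (A ⧸ p)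
  exact ⟨n, by
    rw [Groth.Agent.Lib.Helper4.DimFT1.trdeg_fractionRing_eq k (A ⧸ p) p.ResidueField, htr]⟩

theorem localDim_mvPolynomial (n : ℕ) (q : Ideal (MvPolynomial (Fin n) k)) [q.IsPrime] :
    FlatMor.localDim (PrimeSpectrum (MvPolynomial (Fin n) k)) ⟨q, inferInstance⟩ =
      (n : WithBot ℕ∞) := by
  rw [Groth.Agent.Lib.Helper4.DimFT2.localDim_spec_eq (k := k) q,
    Groth.Agent.Lib.Helper4.DimFT1.height_add_dim_quotient k _ q,
    MvPolynomial.ringKrullDim_of_isNoetherianRing, ringKrullDim_eq_zero_of_field, zero_add,
    Nat.card_fin]

/-- Transcendence degree of residue fields is unchanged along an algebraic residue extension. -/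
theorem trdeg_residueField_eq (R A : Type u) [CommRing R] [CommRing A] [Algebra k R]
    [Algebra k A] [Algebra R A] [IsScalarTower k R A] (q : Ideal R) [q.IsPrime]
    (p : Ideal A) [p.IsPrime] [p.LiesOver q]
    [Algebra (Localization.AtPrime q) (Localization.AtPrime p)]
    [Localization.AtPrime.IsLiesOverAlgebra q p]
    [Algebra.IsAlgebraic q.ResidueField p.ResidueField] :
    Algebra.trdeg k p.ResidueField = Algebra.trdeg k q.ResidueField := by
  haveI : IsScalarTower k q.ResidueField p.ResidueField := inferInstance
  have h := trdeg_add_eq k q.ResidueField (A := p.ResidueField)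
  rw [_root_.trdeg_eq_zero (R := q.ResidueField) (A := p.ResidueField), add_zero] at h
  exact h.symm

end Dim

section Main

theorem exists_nat_ringKrullDim (E : Type u) [CommRing E] [IsNoetherianRing E] [IsLocalRing E] :
    ∃ e : ℕ, ringKrullDim E = e := by
  have hfin : ringKrullDim E < ⊤ := ringKrullDim_lt_top
  have hnn : (0 : WithBot ℕ∞) ≤ ringKrullDim E := ringKrullDim_nonneg_of_nontrivial
  have h1 : ringKrullDim E ≠ ⊥ := fun h => by rw [h] at hnn; exact absurd hnn (by simp)
  have h2 : ringKrullDim E ≠ ⊤ := hfin.ne
  obtain ⟨d, hd⟩ := WithBot.ne_bot_iff_exists.mp h1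
  have h3 : d ≠ ⊤ := fun h => h2 (by rw [← hd, h]; rfl)
  obtain ⟨e, he⟩ := ENat.ne_top_iff_exists.mp h3
  exact ⟨e, by rw [← hd, ← he]; rfl⟩

variable (k A : Type u) [Field k] [CommRing A] [Algebra k A] [Algebra.FiniteType k A] (n : ℕ)
  [Algebra (MvPolynomial (Fin n) k) A] [IsScalarTower k (MvPolynomial (Fin n) k) A]
  (p : Ideal A) [p.IsPrime]

/-- The dimension inequality at an unramified point of local dimension `n`. -/
theorem dim_le_of_isUnramifiedAt
    (hn : FlatMor.localDim (PrimeSpectrum A) ⟨p, inferInstance⟩ = (n : WithBot ℕ∞))
    [Algebra.IsUnramifiedAt (MvPolynomial (Fin n) k) p] :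
    ringKrullDim (Localization.AtPrime (p.under (MvPolynomial (Fin n) k))) ≤
      ringKrullDim (Localization.AtPrime p) := by
  haveI : Algebra.FiniteType (MvPolynomial (Fin n) k) A :=
    Algebra.FiniteType.of_restrictScalars_finiteType k (MvPolynomial (Fin n) k) A
  haveI : IsNoetherianRing A := Algebra.FiniteType.isNoetherianRing k A
  have hlo : p.LiesOver (p.under (MvPolynomial (Fin n) k)) := ⟨rfl⟩
  letI := Localization.AtPrime.algebraOfLiesOver (p.under (MvPolynomial (Fin n) k)) p
  haveI : Module.Finite (p.under (MvPolynomial (Fin n) k)).ResidueField p.ResidueField :=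
    inferInstance
  haveI : Algebra.IsAlgebraic (p.under (MvPolynomial (Fin n) k)).ResidueField p.ResidueField :=
    Algebra.IsAlgebraic.of_finite _ _
  obtain ⟨t, ht⟩ := exists_trdeg_residueField k A p
  have ht' : Algebra.trdeg k (p.under (MvPolynomial (Fin n) k)).ResidueField = t := by
    rw [← trdeg_residueField_eq k (MvPolynomial (Fin n) k) A (p.under _) p, ht]
  have h1 := Groth.Agent.Lib.Helper4.DimFT2.S2141_main (k := k) p t ht
  have h2 := Groth.Agent.Lib.Helper4.DimFT2.S2141_main (k := k)
    (p.under (MvPolynomial (Fin n) k)) t ht'
  rw [hn] at h1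
  rw [localDim_mvPolynomial] at h2
  obtain ⟨a, ha⟩ := exists_nat_ringKrullDim (Localization.AtPrime p)
  obtain ⟨b, hb⟩ := exists_nat_ringKrullDim
    (Localization.AtPrime (p.under (MvPolynomial (Fin n) k)))
  rw [ha] at h1
  rw [hb] at h2
  rw [ha, hb]
  have h3 : n = a + t := by exact_mod_cast h1
  have h4 : n = b + t := by exact_mod_cast h2
  have h5 : b ≤ a := by omega
  exact_mod_cast h5

theorem D_algebraMap_mem_span (f : MvPolynomial (Fin n) k) :
    KaehlerDifferential.D k (Localization.AtPrime p)
      (algebraMap (MvPolynomial (Fin n) k) (Localization.AtPrime p) f) ∈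
      Submodule.span (Localization.AtPrime p)
        (Set.range fun i : Fin n => KaehlerDifferential.D k (Localization.AtPrime p)
          (algebraMap (MvPolynomial (Fin n) k) (Localization.AtPrime p) (MvPolynomial.X i))) := by
  induction f using MvPolynomial.induction_on with
  | C a =>
    have : algebraMap (MvPolynomial (Fin n) k) (Localization.AtPrime p) (MvPolynomial.C a) =
        algebraMap k (Localization.AtPrime p) a := by
      rw [IsScalarTower.algebraMap_apply k (MvPolynomial (Fin n) k) (Localization.AtPrime p)]
      rfl
    rw [this, Derivation.map_algebraMap]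
    exact Submodule.zero_mem _
  | add f g hf hg =>
    rw [map_add, map_add]
    exact Submodule.add_mem _ hf hg
  | mul_X f i hf =>
    rw [map_mul, Derivation.leibniz]
    refine Submodule.add_mem _ (Submodule.smul_mem _ _ ?_) (Submodule.smul_mem _ _ hf)
    exact Submodule.subset_span ⟨i, rfl⟩

theorem map_mem_span (w : Ω[MvPolynomial (Fin n) k⁄k]) :
    KaehlerDifferential.map k k (MvPolynomial (Fin n) k) (Localization.AtPrime p) w ∈
      Submodule.span (Localization.AtPrime p)
        (Set.range fun i : Fin n => KaehlerDifferential.D k (Localization.AtPrime p)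
          (algebraMap (MvPolynomial (Fin n) k) (Localization.AtPrime p) (MvPolynomial.X i))) := by
  have hw : w ∈ Submodule.span (MvPolynomial (Fin n) k)
      (Set.range (KaehlerDifferential.D k (MvPolynomial (Fin n) k))) := by
    rw [KaehlerDifferential.span_range_derivation]; trivial
  induction hw using Submodule.span_induction with
  | mem x hx =>
    obtain ⟨f, rfl⟩ := hx
    rw [KaehlerDifferential.map_D]
    exact D_algebraMap_mem_span k A n p f
  | zero => rw [map_zero]; exact Submodule.zero_mem _
  | add x y _ _ hx hy => rw [map_add]; exact Submodule.add_mem _ hx hy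
  | smul a x _ hx =>
    rw [map_smul, ← algebraMap_smul (Localization.AtPrime p) a]
    exact Submodule.smul_mem _ _ hx

theorem diffSpan_main
    (hn : FlatMor.localDim (PrimeSpectrum A) ⟨p, inferInstance⟩ = (n : WithBot ℕ∞)) :
    Algebra.IsEtaleAt (MvPolynomial (Fin n) k) p ↔
      Submodule.span (Localization.AtPrime p)
        (Set.range fun i : Fin n => KaehlerDifferential.D k (Localization.AtPrime p)
          (algebraMap A (Localization.AtPrime p)
            (algebraMap (MvPolynomial (Fin n) k) A (MvPolynomial.X i)))) = ⊤ := by
  have hX : (fun i : Fin n => KaehlerDifferential.D k (Localization.AtPrime p)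
      (algebraMap A (Localization.AtPrime p)
        (algebraMap (MvPolynomial (Fin n) k) A (MvPolynomial.X i)))) =
      fun i : Fin n => KaehlerDifferential.D k (Localization.AtPrime p)
        (algebraMap (MvPolynomial (Fin n) k) (Localization.AtPrime p) (MvPolynomial.X i)) := by
    funext i
    rw [← IsScalarTower.algebraMap_apply (MvPolynomial (Fin n) k) A (Localization.AtPrime p)]
  rw [hX]
  constructor
  · intro h
    haveI : Algebra.FormallyEtale (MvPolynomial (Fin n) k) (Localization.AtPrime p) := h
    have hex := KaehlerDifferential.exact_mapBaseChange_map k (MvPolynomial (Fin n) k)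
      (Localization.AtPrime p)
    rw [eq_top_iff]
    intro ω _
    have hω : KaehlerDifferential.map k (MvPolynomial (Fin n) k) (Localization.AtPrime p)
        (Localization.AtPrime p) ω = 0 := Subsingleton.elim _ _
    obtain ⟨y, rfl⟩ := (hex ω).mp hω
    clear hω
    induction y with
    | zero => rw [map_zero]; exact Submodule.zero_mem _
    | add a b ha hb => rw [map_add]; exact Submodule.add_mem _ (ha trivial) (hb trivial)
    | tmul s w =>
      rw [KaehlerDifferential.mapBaseChange_tmul]
      exact Submodule.smul_mem _ _ (map_mem_span k A n p w)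
  · intro h
    haveI : Algebra.FiniteType (MvPolynomial (Fin n) k) A :=
      Algebra.FiniteType.of_restrictScalars_finiteType k (MvPolynomial (Fin n) k) A
    haveI : Algebra.IsUnramifiedAt (MvPolynomial (Fin n) k) p := by
      change Algebra.FormallyUnramified (MvPolynomial (Fin n) k) (Localization.AtPrime p)
      rw [Algebra.formallyUnramified_iff]
      refine ⟨fun x y => ?_⟩
      suffices H : ∀ z : Ω[Localization.AtPrime p⁄MvPolynomial (Fin n) k], z = 0 by
        rw [H x, H y]
      intro z
      obtain ⟨ω, rfl⟩ := KaehlerDifferential.map_surjective k (MvPolynomial (Fin n) k)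
        (Localization.AtPrime p) z
      have hω : ω ∈ Submodule.span (Localization.AtPrime p)
        (Set.range fun i : Fin n => KaehlerDifferential.D k (Localization.AtPrime p)
          (algebraMap (MvPolynomial (Fin n) k) (Localization.AtPrime p) (MvPolynomial.X i))) := by
        rw [h]; trivial
      induction hω using Submodule.span_induction with
      | mem x hx =>
        obtain ⟨i, rfl⟩ := hx
        rw [KaehlerDifferential.map_D, Algebra.algebraMap_self, RingHom.id_apply,
          Derivation.map_algebraMap]
      | zero => rw [map_zero]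
      | add x y _ _ hx hy => rw [map_add, hx, hy, add_zero]
      | smul a x _ hx => rw [map_smul, hx, smul_zero]
    exact isEtaleAt_of_isUnramifiedAt_of_dim_le (MvPolynomial (Fin n) k) A p
      (dim_le_of_isUnramifiedAt k A n p hn)

end Main

end Groth.Agent.Helper7.EtCoord
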