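import Mathlib
import Groth.Prelude
import Groth.Agent.Lib.Helper7.EtCoord.DiffSpan
import Groth.Agent.Lib.Helper6.EtaleCoord

/-! helper7: smoothness over a field at a prime of a finite type algebra holds exactly when the
fibre rank of the differentials is at most the local dimension (S2063): choose coordinates whose
differentials form a basis of the fibre; they are unramified, and etale exactly when the
dimension does not drop. -/

set_option linter.style.haveILetI false
set_option linter.unusedVariables false
set_option linter.unusedSectionVars false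
set_option linter.overlappingInstances false

open IsLocalRing TensorProduct

namespace Groth.Agent.Helper7.EtCoord

universe u

section Coords

variable (k S : Type u) [Field k] [CommRing S] [Algebra k S] [Algebra.FiniteType k S]
  (q : Ideal S) [q.IsPrime]

/-- The fibre of the differentials at `q` is spanned by the classes of exact differentials. -/
theorem span_one_tmul_D_eq_top :
    Submodule.span q.ResidueField
      (Set.range fun s : S => (1 : q.ResidueField) ⊗ₜ[S] KaehlerDifferential.D k S s) = ⊤ := by
  have key : ∀ ω : Ω[S⁄k], (1 : q.ResidueField) ⊗ₜ[S] ω ∈ Submodule.span q.ResidueField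
      (Set.range fun s : S => (1 : q.ResidueField) ⊗ₜ[S] KaehlerDifferential.D k S s) := by
    intro ω
    have hω : ω ∈ Submodule.span S (Set.range (KaehlerDifferential.D k S)) := by
      rw [KaehlerDifferential.span_range_derivation]; trivial
    induction hω using Submodule.span_induction with
    | mem x hx =>
      obtain ⟨s, rfl⟩ := hx
      exact Submodule.subset_span ⟨s, rfl⟩
    | zero => rw [TensorProduct.tmul_zero]; exact Submodule.zero_mem _
    | add x y _ _ hx hy => rw [TensorProduct.tmul_add]; exact Submodule.add_mem _ hx hy
    | smul c x _ hx =>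
      rw [← TensorProduct.smul_tmul, ← algebraMap_smul q.ResidueField c (1 : q.ResidueField),
        ← TensorProduct.smul_tmul']
      exact Submodule.smul_mem _ _ hx
  rw [eq_top_iff]
  intro z _
  induction z with
  | zero => exact Submodule.zero_mem _
  | add a b ha hb => exact Submodule.add_mem _ (ha trivial) (hb trivial)
  | tmul a ω =>
    have h1 : a ⊗ₜ[S] ω = a • ((1 : q.ResidueField) ⊗ₜ[S] ω) := by
      rw [TensorProduct.smul_tmul', smul_eq_mul, mul_one]
    rw [h1]
    exact Submodule.smul_mem _ _ (key ω)

/-- Choice of coordinates: elements whose differentials form a basis of the fibre of the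
differentials at `q`. -/
theorem exists_coords :
    ∃ g : Fin (Module.finrank q.ResidueField (q.ResidueField ⊗[S] Ω[S⁄k])) → S,
      LinearIndependent q.ResidueField
        (fun i => (1 : q.ResidueField) ⊗ₜ[S] KaehlerDifferential.D k S (g i)) ∧
      Submodule.span q.ResidueField
        (Set.range fun i => (1 : q.ResidueField) ⊗ₜ[S] KaehlerDifferential.D k S (g i)) = ⊤ := by
  haveI : Module.Finite S Ω[S⁄k] := inferInstance
  haveI : Module.Finite q.ResidueField (q.ResidueField ⊗[S] Ω[S⁄k]) := inferInstance
  set r := Module.finrank q.ResidueField (q.ResidueField ⊗[S] Ω[S⁄k]) with hr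
  obtain ⟨v, hv, hli⟩ := Groth.Agent.Helper8.RLR.exists_linearIndependent_of_le_finrank
    (K := q.ResidueField)
    (Set.range fun s : S => (1 : q.ResidueField) ⊗ₜ[S] KaehlerDifferential.D k S s) r (by
      rw [span_one_tmul_D_eq_top, finrank_top])
  choose g hg using hv
  have hvg : v = fun i => (1 : q.ResidueField) ⊗ₜ[S] KaehlerDifferential.D k S (g i) :=
    funext fun i => (hg i).symm
  rw [hvg] at hli
  refine ⟨g, hli, ?_⟩
  exact hli.span_eq_top_of_card_eq_finrank' (by rw [Fintype.card_fin])

end Coords

section WithAlg

variable (k S : Type u) [Field k] [CommRing S] [Algebra k S] [Algebra.FiniteType k S] (r : ℕ)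
  [Algebra (MvPolynomial (Fin r) k) S] [IsScalarTower k (MvPolynomial (Fin r) k) S]
  (q : Ideal S) [q.IsPrime]

/-- If the differentials of the coordinates span the fibre of the differentials at `q`, the
coordinate map is unramified at `q`. -/
theorem isUnramifiedAt_of_span
    (hspan : Submodule.span q.ResidueField (Set.range fun i : Fin r =>
      (1 : q.ResidueField) ⊗ₜ[S] KaehlerDifferential.D k S
        (algebraMap (MvPolynomial (Fin r) k) S (MvPolynomial.X i))) = ⊤) :
    Algebra.IsUnramifiedAt (MvPolynomial (Fin r) k) q := by
  haveI : Algebra.FiniteType (MvPolynomial (Fin r) k) S :=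
    Algebra.FiniteType.of_restrictScalars_finiteType k (MvPolynomial (Fin r) k) S
  haveI : Module.Finite S Ω[S⁄MvPolynomial (Fin r) k] := inferInstance
  have hmem : (⟨q, inferInstance⟩ : PrimeSpectrum S) ∈
      Algebra.unramifiedLocus (MvPolynomial (Fin r) k) S := by
    rw [Algebra.unramifiedLocus_eq_compl_support, Set.mem_compl_iff,
      Module.mem_support_iff_nontrivial_residueField_tensorProduct,
      not_nontrivial_iff_subsingleton]
    set f := KaehlerDifferential.map k (MvPolynomial (Fin r) k) S S with hf
    have hsurj : Function.Surjective (f.baseChange q.ResidueField) := by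
      rw [LinearMap.baseChange_eq_ltensor]
      exact LinearMap.lTensor_surjective _
        (KaehlerDifferential.map_surjective k (MvPolynomial (Fin r) k) S)
    refine ⟨fun a b => ?_⟩
    suffices H : ∀ z : q.ResidueField ⊗[S] Ω[S⁄MvPolynomial (Fin r) k], z = 0 by rw [H a, H b]
    intro z
    obtain ⟨y, rfl⟩ := hsurj z
    have hy : y ∈ Submodule.span q.ResidueField (Set.range fun i : Fin r =>
      (1 : q.ResidueField) ⊗ₜ[S] KaehlerDifferential.D k S
        (algebraMap (MvPolynomial (Fin r) k) S (MvPolynomial.X i))) := by
      rw [hspan]; trivial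
    induction hy using Submodule.span_induction with
    | mem x hx =>
      obtain ⟨i, rfl⟩ := hx
      rw [LinearMap.baseChange_tmul, hf, KaehlerDifferential.map_D, Algebra.algebraMap_self,
        RingHom.id_apply, Derivation.map_algebraMap, TensorProduct.tmul_zero]
    | zero => rw [map_zero]
    | add x y _ _ hx hy => rw [map_add, hx, hy, add_zero]
    | smul a x _ hx => rw [map_smul, hx, smul_zero]
  exact hmem

/-- The dimension inequality at an unramified point of local dimension at least `r`. -/
theorem dim_le_of_isUnramifiedAt'
    (hn : (r : WithBot ℕ∞) ≤ FlatMor.localDim (PrimeSpectrum S) ⟨q, inferInstance⟩)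
    [Algebra.IsUnramifiedAt (MvPolynomial (Fin r) k) q] :
    ringKrullDim (Localization.AtPrime (q.under (MvPolynomial (Fin r) k))) ≤
      ringKrullDim (Localization.AtPrime q) := by
  haveI : Algebra.FiniteType (MvPolynomial (Fin r) k) S :=
    Algebra.FiniteType.of_restrictScalars_finiteType k (MvPolynomial (Fin r) k) S
  haveI : IsNoetherianRing S := Algebra.FiniteType.isNoetherianRing k S
  have hlo : q.LiesOver (q.under (MvPolynomial (Fin r) k)) := ⟨rfl⟩
  letI := Localization.AtPrime.algebraOfLiesOver (q.under (MvPolynomial (Fin r) k)) q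
  haveI : Module.Finite (q.under (MvPolynomial (Fin r) k)).ResidueField q.ResidueField :=
    inferInstance
  haveI : Algebra.IsAlgebraic (q.under (MvPolynomial (Fin r) k)).ResidueField q.ResidueField :=
    Algebra.IsAlgebraic.of_finite _ _
  obtain ⟨t, ht⟩ := exists_trdeg_residueField k S q
  have ht' : Algebra.trdeg k (q.under (MvPolynomial (Fin r) k)).ResidueField = t := by
    rw [← trdeg_residueField_eq k (MvPolynomial (Fin r) k) S (q.under _) q, ht]
  have h1 := Groth.Agent.Lib.Helper4.DimFT2.S2141_main (k := k) q t ht
  have h2 := Groth.Agent.Lib.Helper4.DimFT2.S2141_main (k := k)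
    (q.under (MvPolynomial (Fin r) k)) t ht'
  rw [h1] at hn
  rw [localDim_mvPolynomial] at h2
  obtain ⟨a, ha⟩ := exists_nat_ringKrullDim (Localization.AtPrime q)
  obtain ⟨b, hb⟩ := exists_nat_ringKrullDim
    (Localization.AtPrime (q.under (MvPolynomial (Fin r) k)))
  rw [ha] at hn
  rw [hb] at h2
  rw [ha, hb]
  have h3 : r ≤ a + t := by exact_mod_cast hn
  have h4 : r = b + t := by exact_mod_cast h2
  have h5 : b ≤ a := by omega
  exact_mod_cast h5

/-- Rank of the differentials at most the local dimension implies smoothness. -/
theorem isSmoothAt_of_span_of_le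
    (hspan : Submodule.span q.ResidueField (Set.range fun i : Fin r =>
      (1 : q.ResidueField) ⊗ₜ[S] KaehlerDifferential.D k S
        (algebraMap (MvPolynomial (Fin r) k) S (MvPolynomial.X i))) = ⊤)
    (hn : (r : WithBot ℕ∞) ≤ FlatMor.localDim (PrimeSpectrum S) ⟨q, inferInstance⟩) :
    Algebra.IsSmoothAt k q := by
  haveI : Algebra.FiniteType (MvPolynomial (Fin r) k) S :=
    Algebra.FiniteType.of_restrictScalars_finiteType k (MvPolynomial (Fin r) k) S
  haveI := isUnramifiedAt_of_span k S r q hspan
  have het : Algebra.IsEtaleAt (MvPolynomial (Fin r) k) q :=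
    isEtaleAt_of_isUnramifiedAt_of_dim_le (MvPolynomial (Fin r) k) S q
      (dim_le_of_isUnramifiedAt' k S r q hn)
  haveI : Algebra.FormallyEtale (MvPolynomial (Fin r) k) (Localization.AtPrime q) := het
  haveI : Algebra.FormallySmooth (MvPolynomial (Fin r) k) (Localization.AtPrime q) :=
    inferInstance
  haveI : Algebra.FormallySmooth k (MvPolynomial (Fin r) k) := inferInstance
  exact Algebra.FormallySmooth.comp k (MvPolynomial (Fin r) k) (Localization.AtPrime q)

end WithAlg

section Transfer

variable (k S : Type u) [Field k] [CommRing S] [Algebra k S] (q : Ideal S) [q.IsPrime]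

/-- The fibre of the differentials of the local ring agrees with the fibre of the differentials. -/
noncomputable def eK : q.ResidueField ⊗[Localization.AtPrime q] Ω[Localization.AtPrime q⁄k]
    ≃ₗ[q.ResidueField] q.ResidueField ⊗[S] Ω[S⁄k] :=
  haveI : Algebra.FormallyEtale S (Localization.AtPrime q) :=
    Algebra.FormallyEtale.of_isLocalization q.primeCompl
  (AlgebraTensorModule.congr (LinearEquiv.refl q.ResidueField q.ResidueField)
      (KaehlerDifferential.tensorKaehlerEquivOfFormallyEtale k S (Localization.AtPrime q)).symm) ≪≫ₗ
    AlgebraTensorModule.cancelBaseChange S (Localization.AtPrime q) q.ResidueField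
      q.ResidueField Ω[S⁄k]

theorem eK_apply (s : S) :
    eK k S q ((1 : q.ResidueField) ⊗ₜ[Localization.AtPrime q]
      KaehlerDifferential.D k (Localization.AtPrime q) (algebraMap S (Localization.AtPrime q) s)) =
      (1 : q.ResidueField) ⊗ₜ[S] KaehlerDifferential.D k S s := by
  haveI : Algebra.FormallyEtale S (Localization.AtPrime q) :=
    Algebra.FormallyEtale.of_isLocalization q.primeCompl
  simp only [eK, LinearEquiv.trans_apply, AlgebraTensorModule.congr_tmul, LinearEquiv.refl_apply,
    KaehlerDifferential.tensorKaehlerEquivOfFormallyEtale_symm_D_algebraMap,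
    AlgebraTensorModule.cancelBaseChange_tmul, one_smul]

end Transfer

section Converse

variable (k S : Type u) [Field k] [CommRing S] [Algebra k S] [Algebra.FiniteType k S] (r : ℕ)
  [Algebra (MvPolynomial (Fin r) k) S] [IsScalarTower k (MvPolynomial (Fin r) k) S]
  (q : Ideal S) [q.IsPrime]

/-- At a smooth point, coordinates whose differentials form a basis of the fibre of the
differentials are etale coordinates. -/
theorem isEtaleAt_of_basis_of_isSmoothAt
    (hli : LinearIndependent q.ResidueField (fun i : Fin r =>
      (1 : q.ResidueField) ⊗ₜ[S] KaehlerDifferential.D k S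
        (algebraMap (MvPolynomial (Fin r) k) S (MvPolynomial.X i))))
    (hspan : Submodule.span q.ResidueField (Set.range fun i : Fin r =>
      (1 : q.ResidueField) ⊗ₜ[S] KaehlerDifferential.D k S
        (algebraMap (MvPolynomial (Fin r) k) S (MvPolynomial.X i))) = ⊤)
    [Algebra.IsSmoothAt k q] :
    Algebra.IsEtaleAt (MvPolynomial (Fin r) k) q := by
  haveI : Algebra.FormallySmooth k (Localization.AtPrime q) := ‹Algebra.IsSmoothAt k q›
  haveI : Algebra.EssFiniteType k (Localization.AtPrime q) :=
    Algebra.EssFiniteType.comp k S (Localization.AtPrime q)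
  haveI : Module.Finite (Localization.AtPrime q) Ω[Localization.AtPrime q⁄k] := inferInstance
  haveI : Module.Projective (Localization.AtPrime q) Ω[Localization.AtPrime q⁄k] := inferInstance
  haveI : Module.Flat (Localization.AtPrime q) Ω[Localization.AtPrime q⁄k] := inferInstance
  set u : Fin r → q.ResidueField ⊗[S] Ω[S⁄k] := fun i =>
    (1 : q.ResidueField) ⊗ₜ[S] KaehlerDifferential.D k S
      (algebraMap (MvPolynomial (Fin r) k) S (MvPolynomial.X i)) with hu
  set v : Fin r → Ω[Localization.AtPrime q⁄k] := fun i =>
    KaehlerDifferential.D k (Localization.AtPrime q)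
      (algebraMap (MvPolynomial (Fin r) k) (Localization.AtPrime q) (MvPolynomial.X i)) with hv
  have hubij : Function.Bijective (Finsupp.linearCombination q.ResidueField u) := by
    refine ⟨hli, ?_⟩
    rw [← LinearMap.range_eq_top, Finsupp.range_linearCombination]
    exact hspan
  have hcomp : (eK k S q).toLinearMap ∘ₗ Finsupp.linearCombination q.ResidueField
      (TensorProduct.mk (Localization.AtPrime q) q.ResidueField
        Ω[Localization.AtPrime q⁄k] 1 ∘ v) = Finsupp.linearCombination q.ResidueField u := by
    refine Finsupp.lhom_ext' fun i => LinearMap.ext_ring ?_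
    simp only [LinearMap.comp_apply, Finsupp.lsingle_apply, Finsupp.linearCombination_single,
      one_smul, LinearEquiv.coe_coe, Function.comp_apply, TensorProduct.mk_apply, hv, hu]
    rw [IsScalarTower.algebraMap_apply (MvPolynomial (Fin r) k) S (Localization.AtPrime q)]
    exact eK_apply k S q _
  have hwbij : Function.Bijective (Finsupp.linearCombination q.ResidueField
      (TensorProduct.mk (Localization.AtPrime q) q.ResidueField
        Ω[Localization.AtPrime q⁄k] 1 ∘ v)) := by
    have h1 : Function.Bijective ((eK k S q).toLinearMap ∘ₗ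
        Finsupp.linearCombination q.ResidueField
          (TensorProduct.mk (Localization.AtPrime q) q.ResidueField
            Ω[Localization.AtPrime q⁄k] 1 ∘ v)) := by
      rw [hcomp]; exact hubij
    rw [LinearMap.coe_comp] at h1
    exact (Function.Bijective.of_comp_iff' (eK k S q).bijective _).mp h1
  have hb : Function.Bijective (Finsupp.linearCombination (Localization.AtPrime q) v) :=
    Module.IsLocalRing.linearCombination_bijective_of_flat (R := Localization.AtPrime q) v hwbij
  exact Groth.Agent.Lib.Helper6.EtaleCoord.formallyEtale_of_basis (k := k)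
    (T := Localization.AtPrime q) (ι := Fin r) hb

end Converse

section DimEtale

variable (k S : Type u) [Field k] [CommRing S] [Algebra k S] [Algebra.FiniteType k S] (r : ℕ)
  [Algebra (MvPolynomial (Fin r) k) S] [IsScalarTower k (MvPolynomial (Fin r) k) S]
  (q : Ideal S) [q.IsPrime]

/-- A point at which the coordinate map from affine `r`-space is etale has local dimension `r`. -/
theorem localDim_eq_of_isEtaleAt [Algebra.IsEtaleAt (MvPolynomial (Fin r) k) q] :
    FlatMor.localDim (PrimeSpectrum S) ⟨q, inferInstance⟩ = (r : WithBot ℕ∞) := by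
  haveI : Algebra.FiniteType (MvPolynomial (Fin r) k) S :=
    Algebra.FiniteType.of_restrictScalars_finiteType k (MvPolynomial (Fin r) k) S
  haveI : IsNoetherianRing S := Algebra.FiniteType.isNoetherianRing k S
  haveI : Algebra.FinitePresentation (MvPolynomial (Fin r) k) S :=
    Algebra.FinitePresentation.of_finiteType.mp inferInstance
  haveI : Algebra.FormallyEtale (MvPolynomial (Fin r) k) (Localization.AtPrime q) :=
    ‹Algebra.IsEtaleAt (MvPolynomial (Fin r) k) q›
  -- flatness of the local ring over the polynomial ring
  obtain ⟨f, hf, hstd⟩ := Algebra.IsEtaleAt.exists_isStandardEtale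
    (R := MvPolynomial (Fin r) k) q
  haveI : Algebra.Etale (MvPolynomial (Fin r) k) (Localization.Away f) := inferInstance
  haveI : Module.Flat (MvPolynomial (Fin r) k) (Localization.Away f) := inferInstance
  have hp' : Submonoid.powers f ≤ q.primeCompl := by
    simpa [Submonoid.powers_le, Ideal.primeCompl] using hf
  letI : Algebra (Localization.Away f) (Localization.AtPrime q) :=
    IsLocalization.localizationAlgebraOfSubmonoidLe _ _ (.powers f) q.primeCompl hp'
  haveI : IsScalarTower S (Localization.Away f) (Localization.AtPrime q) :=
    IsLocalization.localization_isScalarTower_of_submonoid_le ..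
  haveI : IsLocalization ((q.primeCompl).map (algebraMap S (Localization.Away f)))
      (Localization.AtPrime q) :=
    IsLocalization.isLocalization_of_submonoid_le (Localization.Away f) (Localization.AtPrime q)
      _ _ hp'
  haveI : Module.Flat (Localization.Away f) (Localization.AtPrime q) :=
    IsLocalization.flat _ ((q.primeCompl).map (algebraMap S (Localization.Away f)))
  haveI : IsScalarTower (MvPolynomial (Fin r) k) (Localization.Away f) (Localization.AtPrime q) :=
    IsScalarTower.to₁₃₄ (MvPolynomial (Fin r) k) S _ _
  haveI : Module.Flat (MvPolynomial (Fin r) k) (Localization.AtPrime q) :=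
    Module.Flat.trans (MvPolynomial (Fin r) k) (Localization.Away f) _
  -- the local homomorphism
  have hlo : q.LiesOver (q.under (MvPolynomial (Fin r) k)) := ⟨rfl⟩
  letI := Localization.AtPrime.algebraOfLiesOver (q.under (MvPolynomial (Fin r) k)) q
  haveI : Module.Flat (Localization.AtPrime (q.under (MvPolynomial (Fin r) k)))
      (Localization.AtPrime q) :=
    (Module.flat_iff_of_isLocalization (Localization.AtPrime (q.under (MvPolynomial (Fin r) k)))
      (q.under (MvPolynomial (Fin r) k)).primeCompl (Localization.AtPrime q)).mpr inferInstance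
  haveI : Algebra.EssFiniteType (Localization.AtPrime (q.under (MvPolynomial (Fin r) k)))
      (Localization.AtPrime q) := .of_comp (MvPolynomial (Fin r) k) _ _
  haveI : Algebra.FormallyUnramified (MvPolynomial (Fin r) k) (Localization.AtPrime q) :=
    inferInstance
  haveI : Algebra.IsUnramifiedAt (MvPolynomial (Fin r) k) q :=
    ‹Algebra.FormallyUnramified (MvPolynomial (Fin r) k) (Localization.AtPrime q)›
  haveI : Algebra.FormallyUnramified (Localization.AtPrime (q.under (MvPolynomial (Fin r) k)))
      (Localization.AtPrime q) := .of_restrictScalars (MvPolynomial (Fin r) k) _ _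
  have hm := Algebra.FormallyUnramified.map_maximalIdeal
    (R := Localization.AtPrime (q.under (MvPolynomial (Fin r) k))) (S := Localization.AtPrime q)
  have hfield : IsField (Localization.AtPrime q ⧸
      (maximalIdeal (Localization.AtPrime (q.under (MvPolynomial (Fin r) k)))).map
        (algebraMap _ (Localization.AtPrime q))) := by
    rw [hm]
    exact (Ideal.Quotient.maximal_ideal_iff_isField_quotient _).mp (maximalIdeal.isMaximal _)
  have hdim : ringKrullDim (Localization.AtPrime q) =
      ringKrullDim (Localization.AtPrime (q.under (MvPolynomial (Fin r) k))) := by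
    rw [Groth.Agent.Helper8.FlatReg.ringKrullDim_eq_add_of_flat
      (Localization.AtPrime (q.under (MvPolynomial (Fin r) k))) (Localization.AtPrime q),
      ringKrullDim_eq_zero_of_isField hfield, add_zero]
  -- transcendence degrees
  haveI : Module.Finite (q.under (MvPolynomial (Fin r) k)).ResidueField q.ResidueField :=
    inferInstance
  haveI : Algebra.IsAlgebraic (q.under (MvPolynomial (Fin r) k)).ResidueField q.ResidueField :=
    Algebra.IsAlgebraic.of_finite _ _
  obtain ⟨t, ht⟩ := exists_trdeg_residueField k S q
  have ht' : Algebra.trdeg k (q.under (MvPolynomial (Fin r) k)).ResidueField = t := by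
    rw [← trdeg_residueField_eq k (MvPolynomial (Fin r) k) S (q.under _) q, ht]
  have h1 := Groth.Agent.Lib.Helper4.DimFT2.S2141_main (k := k) q t ht
  have h2 := Groth.Agent.Lib.Helper4.DimFT2.S2141_main (k := k)
    (q.under (MvPolynomial (Fin r) k)) t ht'
  rw [localDim_mvPolynomial] at h2
  rw [h1, hdim, ← h2]

end DimEtale

section MainThm

theorem rankDim_main {k S : Type u} [Field k] [CommRing S] [Algebra k S]
    [Algebra.FiniteType k S] (q : Ideal S) [q.IsPrime] :
    Algebra.IsSmoothAt k q ↔
      ((Module.finrank q.ResidueField (q.ResidueField ⊗[S] Ω[S⁄k]) : ℕ∞) : WithBot ℕ∞) ≤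
        FlatMor.localDim (PrimeSpectrum S) ⟨q, inferInstance⟩ := by
  obtain ⟨g, hli, hspan⟩ := exists_coords k S q
  generalize Module.finrank q.ResidueField (q.ResidueField ⊗[S] Ω[S⁄k]) = r at g hli hspan ⊢
  letI : Algebra (MvPolynomial (Fin r) k) S := (MvPolynomial.aeval g).toRingHom.toAlgebra
  haveI : IsScalarTower k (MvPolynomial (Fin r) k) S :=
    IsScalarTower.of_algebraMap_eq' (MvPolynomial.aeval g).comp_algebraMap.symm
  have hX : ∀ i, algebraMap (MvPolynomial (Fin r) k) S (MvPolynomial.X i) = g i :=
    fun i => MvPolynomial.aeval_X g i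
  have hfun : (fun i : Fin r => (1 : q.ResidueField) ⊗ₜ[S] KaehlerDifferential.D k S
      (algebraMap (MvPolynomial (Fin r) k) S (MvPolynomial.X i))) =
      fun i => (1 : q.ResidueField) ⊗ₜ[S] KaehlerDifferential.D k S (g i) := by
    funext i; rw [hX]
  rw [← hfun] at hli hspan
  constructor
  · intro h
    haveI := h
    haveI := isEtaleAt_of_basis_of_isSmoothAt k S r q hli hspan
    rw [localDim_eq_of_isEtaleAt k S r q]
    exact le_of_eq rfl
  · intro h
    exact isSmoothAt_of_span_of_le k S r q hspan (by exact_mod_cast h)

end MainThm

end Groth.Agent.Helper7.EtCoord
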