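import Mathlib
import Groth.Prelude
import Groth.Agent.Lib.Helper4.DimFT2

/-! helper7: the local dimension of the spectrum of a finite type algebra over a field at a prime
is the infimum of the dimensions of the local rings at the maximal ideals above it (S2143). -/

set_option linter.style.haveILetI false
set_option linter.unusedVariables false
set_option linter.unusedSectionVars false

namespace Groth.Agent.Helper7.LocDimInf

universe u

open Groth.Agent.Lib.Helper4.DimFT1 Groth.Agent.Lib.Helper4.DimFT2

variable {k S : Type u} [Field k] [CommRing S] [Algebra k S] [Algebra.FiniteType k S]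

include k in
/-- lower bound: every maximal ideal above `p` has height at least `ht p + dim S/p`. -/
theorem le_height_of_isMaximal (p : Ideal S) [hp : p.IsPrime] (m : Ideal S) [hm : m.IsMaximal]
    (hpm : p ≤ m) :
    (p.height : WithBot ℕ∞) + ringKrullDim (S ⧸ p) ≤ (m.height : WithBot ℕ∞) := by
  haveI : IsNoetherianRing S := Algebra.FiniteType.isNoetherianRing k S
  obtain ⟨P, hPmin, hPp, hPh⟩ := exists_minimalPrimes_height_eq p
  haveI := hPmin.1.1
  have h2 := height_map_eq_dim_of_isMaximal k S P m (hPp.trans hpm)
  have h3 := height_map_add_dim k S P p hPp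
  rw [hPh] at h3
  rw [h3, ← h2]
  exact WithBot.coe_le_coe.mpr (height_map_mk_le P m (hPp.trans hpm))

include k in
/-- upper bound: some maximal ideal above `p` has height at most `ht p + dim S/p`. -/
theorem exists_isMaximal_height_le (p : Ideal S) [hp : p.IsPrime] :
    ∃ m : Ideal S, m.IsMaximal ∧ p ≤ m ∧
      (m.height : WithBot ℕ∞) ≤ (p.height : WithBot ℕ∞) + ringKrullDim (S ⧸ p) := by
  haveI : IsNoetherianRing S := Algebra.FiniteType.isNoetherianRing k S
  haveI : IsJacobsonRing S := isJacobsonRing_of_finiteType (A := k) (B := S)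
  obtain ⟨f, hf, hdim⟩ := exists_dim_away_le k S p
  obtain ⟨m, hm, hpm, hfm⟩ : ∃ m : Ideal S, m.IsMaximal ∧ p ≤ m ∧ f ∉ m := by
    have hjac : p.jacobson = p := IsJacobsonRing.out inferInstance hp.isRadical
    have hf' : f ∉ p.jacobson := by rw [hjac]; exact hf
    unfold Ideal.jacobson at hf'
    rw [Submodule.mem_sInf] at hf'
    push Not at hf'
    obtain ⟨m, ⟨hpm, hm⟩, hfm⟩ := hf'
    exact ⟨m, hm, hpm, hfm⟩
  refine ⟨m, hm, hpm, ?_⟩
  have hdisj : Disjoint (Submonoid.powers f : Set S) (m : Set S) := by
    rw [Set.disjoint_left]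
    rintro x ⟨n, rfl⟩ hx
    exact hfm (hm.isPrime.mem_of_pow_mem n hx)
  haveI : (m.map (algebraMap S (Localization.Away f))).IsPrime :=
    IsLocalization.isPrime_of_isPrime_disjoint (Submonoid.powers f) (Localization.Away f) m
      hm.isPrime hdisj
  have h1 : ((m.map (algebraMap S (Localization.Away f))).height : WithBot ℕ∞) ≤
      ringKrullDim (Localization.Away f) :=
    Ideal.height_le_ringKrullDim_of_isPrime
  rw [IsLocalization.height_map_of_disjoint (Submonoid.powers f) m hdisj] at h1
  exact h1.trans (hdim (Localization.Away f))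

include k in
theorem main (p : Ideal S) [p.IsPrime] :
    FlatMor.localDim (PrimeSpectrum S) ⟨p, inferInstance⟩ =
      ⨅ m : {m : Ideal S // m.IsMaximal ∧ p ≤ m},
        ringKrullDim (Localization.AtPrime (hp := m.2.1.isPrime') m.1) := by
  rw [localDim_spec_eq (k := k) p]
  apply le_antisymm
  · apply le_iInf
    rintro ⟨m, hm, hpm⟩
    haveI := hm
    rw [IsLocalization.AtPrime.ringKrullDim_eq_height m (Localization.AtPrime m)]
    exact le_height_of_isMaximal (k := k) p m hpm
  · obtain ⟨m, hm, hpm, hle⟩ := exists_isMaximal_height_le (k := k) p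
    refine le_trans (iInf_le _ (⟨m, hm, hpm⟩ : {m : Ideal S // m.IsMaximal ∧ p ≤ m})) ?_
    haveI := hm
    rw [IsLocalization.AtPrime.ringKrullDim_eq_height m (Localization.AtPrime m)]
    exact hle

end Groth.Agent.Helper7.LocDimInf
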