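import Mathlib
import Groth.Prelude
import Groth.Agent.Lib.Helper8.FlatReg7
import Groth.Agent.Lib.Helper4.DimFT2

/-! helper7: etale coordinates criterion for a finite type algebra over a polynomial ring
(used for S5001): the polynomial map is etale at p iff the coordinate images generate the
maximal ideal of the local ring at p. -/

set_option linter.style.haveILetI false
set_option linter.unusedVariables false
set_option linter.unusedSectionVars false

open IsLocalRing

namespace Groth.Agent.Helper7.EtCoord

universe u

section Vars

variable (k : Type u) [Field k] (n : ℕ)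

theorem sub_C_mem_idealOfVars (f : MvPolynomial (Fin n) k) :
    f - MvPolynomial.C (MvPolynomial.coeff 0 f) ∈ MvPolynomial.idealOfVars (Fin n) k := by
  have := (MvPolynomial.mem_pow_idealOfVars_iff' 1
    (f - MvPolynomial.C (MvPolynomial.coeff 0 f))).mpr (by
      intro x hx
      have hx0 : x = 0 := by
        have : x.degree = 0 := by omega
        exact (Finsupp.degree_eq_zero_iff x).mp this
      rw [hx0, MvPolynomial.coeff_sub, MvPolynomial.coeff_C, if_pos rfl, sub_self])
  rwa [pow_one] at this

theorem eq_idealOfVars_of_le (q : Ideal (MvPolynomial (Fin n) k)) (hq : q ≠ ⊤)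
    (hle : MvPolynomial.idealOfVars (Fin n) k ≤ q) : q = MvPolynomial.idealOfVars (Fin n) k := by
  refine le_antisymm (fun f hf => ?_) hle
  have h1 := sub_C_mem_idealOfVars k n f
  have h2 : MvPolynomial.C (MvPolynomial.coeff 0 f) ∈ q := by
    have := q.sub_mem hf (hle h1)
    simpa using this
  by_cases hc : MvPolynomial.coeff 0 f = 0
  · rw [hc, map_zero, sub_zero] at h1
    exact h1
  · exfalso
    apply hq
    rw [Ideal.eq_top_iff_one]
    have : (1 : MvPolynomial (Fin n) k) =
        MvPolynomial.C (MvPolynomial.coeff 0 f)⁻¹ * MvPolynomial.C (MvPolynomial.coeff 0 f) := by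
      rw [← map_mul, inv_mul_cancel₀ hc, map_one]
    rw [this]
    exact q.mul_mem_left _ h2

end Vars

section Main

variable (k A : Type u) [Field k] [CommRing A] [Algebra k A] [Algebra.FiniteType k A] (n : ℕ)
  [Algebra (MvPolynomial (Fin n) k) A] [IsScalarTower k (MvPolynomial (Fin n) k) A]
  (p : Ideal A) [p.IsPrime]
  (hg : ∀ i : Fin n, algebraMap (MvPolynomial (Fin n) k) A (MvPolynomial.X i) ∈ p)

include hg in
theorem under_eq : p.under (MvPolynomial (Fin n) k) = MvPolynomial.idealOfVars (Fin n) k := by
  apply eq_idealOfVars_of_le
  · exact Ideal.IsPrime.ne_top inferInstance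
  · rw [MvPolynomial.idealOfVars, Ideal.span_le]
    rintro _ ⟨i, rfl⟩
    exact hg i

include hg in
theorem under_isMaximal : (p.under (MvPolynomial (Fin n) k)).IsMaximal := by
  refine Ideal.isMaximal_def.mpr ⟨Ideal.IsPrime.ne_top inferInstance, fun q hlt => ?_⟩
  by_contra hq
  have h1 := eq_idealOfVars_of_le k n q hq (by rw [← under_eq k A n p hg]; exact hlt.le)
  rw [← under_eq k A n p hg] at h1
  exact hlt.ne h1.symm

include hg in
theorem map_under_eq_span :
    (p.under (MvPolynomial (Fin n) k)).map
      (algebraMap (MvPolynomial (Fin n) k) (Localization.AtPrime p)) =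
    Ideal.span (Set.range fun i : Fin n =>
      algebraMap A (Localization.AtPrime p)
        (algebraMap (MvPolynomial (Fin n) k) A (MvPolynomial.X i))) := by
  rw [under_eq k A n p hg, MvPolynomial.idealOfVars, Ideal.map_span, ← Set.range_comp]
  congr 2

include hg in
theorem main
    (hn : FlatMor.localDim (PrimeSpectrum A) ⟨p, inferInstance⟩ = (n : WithBot ℕ∞))
    [Module.Finite k p.ResidueField] [Algebra.IsSeparable k p.ResidueField] :
    Algebra.IsEtaleAt (MvPolynomial (Fin n) k) p ↔
      Ideal.span (Set.range fun i : Fin n =>
        algebraMap A (Localization.AtPrime p)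
          (algebraMap (MvPolynomial (Fin n) k) A (MvPolynomial.X i))) =
        IsLocalRing.maximalIdeal (Localization.AtPrime p) := by
  haveI : IsNoetherianRing A := Algebra.FiniteType.isNoetherianRing k A
  haveI : Algebra.FiniteType (MvPolynomial (Fin n) k) A :=
    Algebra.FiniteType.of_restrictScalars_finiteType k (MvPolynomial (Fin n) k) A
  haveI hlo : p.LiesOver (p.under (MvPolynomial (Fin n) k)) := ⟨rfl⟩
  letI := Localization.AtPrime.algebraOfLiesOver (p.under (MvPolynomial (Fin n) k)) p
  rw [← map_under_eq_span k A n p hg]
  constructor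
  · intro h
    haveI : Algebra.IsUnramifiedAt (MvPolynomial (Fin n) k) p := by
      change Algebra.FormallyUnramified _ _
      have : Algebra.FormallyEtale (MvPolynomial (Fin n) k) (Localization.AtPrime p) := h
      infer_instance
    exact ((Algebra.isUnramifiedAt_iff_map_eq (MvPolynomial (Fin n) k)
      (p.under (MvPolynomial (Fin n) k)) p).mp inferInstance).2
  · intro h
    haveI : Algebra.IsSeparable (p.under (MvPolynomial (Fin n) k)).ResidueField p.ResidueField :=
      Algebra.isSeparable_tower_top_of_isSeparable k _ _
    haveI : Algebra.IsUnramifiedAt (MvPolynomial (Fin n) k) p :=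
      (Algebra.isUnramifiedAt_iff_map_eq (MvPolynomial (Fin n) k)
        (p.under (MvPolynomial (Fin n) k)) p).mpr ⟨inferInstance, h⟩
    have hdimA : ringKrullDim (Localization.AtPrime p) = (n : WithBot ℕ∞) := by
      have htr : Algebra.trdeg k p.ResidueField = ((0 : ℕ) : Cardinal) := by
        rw [Nat.cast_zero]
        haveI : Algebra.IsAlgebraic k p.ResidueField := Algebra.IsAlgebraic.of_finite _ _
        exact _root_.trdeg_eq_zero (R := k) (A := p.ResidueField)
      have := Groth.Agent.Lib.Helper4.DimFT2.S2141_main (k := k) p 0 htr
      rw [hn] at this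
      simpa using this.symm
    have hdimP : ringKrullDim (Localization.AtPrime (p.under (MvPolynomial (Fin n) k))) =
        (n : WithBot ℕ∞) := by
      haveI := under_isMaximal k A n p hg
      rw [IsLocalization.AtPrime.ringKrullDim_eq_height (p.under (MvPolynomial (Fin n) k)),
        Groth.Agent.Lib.Helper4.DimFT1.mvPolynomial_height_of_isMaximal]
      rfl
    haveI : IsRegularLocalRing (Localization.AtPrime p) := by
      apply IsRegularLocalRing.of_spanFinrank_maximalIdeal_le
      rw [hdimA, ← h, map_under_eq_span k A n p hg]
      have h1 := Submodule.spanFinrank_span_le_ncard_of_finite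
        (R := Localization.AtPrime p) (Set.finite_range fun i : Fin n =>
        algebraMap A (Localization.AtPrime p)
          (algebraMap (MvPolynomial (Fin n) k) A (MvPolynomial.X i)))
      have h2 : (Set.range fun i : Fin n =>
        algebraMap A (Localization.AtPrime p)
          (algebraMap (MvPolynomial (Fin n) k) A (MvPolynomial.X i))).ncard ≤ n := by
        have := Set.ncard_image_le (f := fun i : Fin n =>
          algebraMap A (Localization.AtPrime p)
            (algebraMap (MvPolynomial (Fin n) k) A (MvPolynomial.X i))) (s := Set.univ)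
          Set.finite_univ
        rw [Set.image_univ, Set.ncard_univ, Nat.card_fin] at this
        exact this
      exact_mod_cast h1.trans h2
    haveI := Groth.Agent.Helper8.FlatReg.isCohenMacaulayLocalRing_of_isRegularLocalRing
      (Localization.AtPrime p)
    exact Groth.Agent.Helper8.FlatReg.isEtaleAt_of_isUnramifiedAt_of_dim_eq
      (MvPolynomial (Fin n) k) A p (by rw [hdimA, hdimP])

end Main

end Groth.Agent.Helper7.EtCoord
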